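import Cfsg.Agent.Lib.Grp.S62.Defs

set_option autoImplicit false
set_option maxRecDepth 100000
set_option Elab.async false

namespace Cfsg.Agent.CG.S62

theorem c0 : allRange (chkBase 63 12 (appT tabs t38 0xfff) 0 (inv 0)) 0 63 = true := by decide +kernel
theorem c1 : allRange (chkBase 63 12 (appT tabs t38 0xfff) 1 (inv 1)) 0 63 = true := by decide +kernel
theorem c2 : allRange (chkBase 63 12 (appT tabs t38 0xfff) 2 (inv 2)) 0 63 = true := by decide +kernel
theorem c3 : chkDef 12 (appT tabs t38 0xfff) 3 (slp 3) 0 63 = true := by decide +kernel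
theorem c4 : chkDef 12 (appT tabs t38 0xfff) 4 (slp 4) 0 63 = true := by decide +kernel
theorem c5 : chkDef 12 (appT tabs t38 0xfff) 5 (slp 5) 0 63 = true := by decide +kernel
theorem c6 : chkDef 12 (appT tabs t38 0xfff) 6 (slp 6) 0 63 = true := by decide +kernel
theorem c7 : chkDef 12 (appT tabs t38 0xfff) 7 (slp 7) 0 63 = true := by decide +kernel
theorem c8 : chkDef 12 (appT tabs t38 0xfff) 8 (slp 8) 0 63 = true := by decide +kernel
theorem c9 : chkDef 12 (appT tabs t38 0xfff) 9 (slp 9) 0 63 = true := by decide +kernel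
theorem c10 : chkDef 12 (appT tabs t38 0xfff) 10 (slp 10) 0 63 = true := by decide +kernel
theorem c11 : chkDef 12 (appT tabs t38 0xfff) 11 (slp 11) 0 63 = true := by decide +kernel
theorem c12 : chkDef 12 (appT tabs t38 0xfff) 12 (slp 12) 0 63 = true := by decide +kernel
theorem c13 : chkDef 12 (appT tabs t38 0xfff) 13 (slp 13) 0 63 = true := by decide +kernel
theorem c14 : chkDef 12 (appT tabs t38 0xfff) 14 (slp 14) 0 63 = true := by decide +kernel
theorem c15 : chkDef 12 (appT tabs t38 0xfff) 15 (slp 15) 0 63 = true := by decide +kernel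
theorem c16 : chkDef 12 (appT tabs t38 0xfff) 16 (slp 16) 0 63 = true := by decide +kernel
theorem c17 : chkDef 12 (appT tabs t38 0xfff) 17 (slp 17) 0 63 = true := by decide +kernel
theorem c18 : chkDef 12 (appT tabs t38 0xfff) 18 (slp 18) 0 63 = true := by decide +kernel
theorem c19 : chkDef 12 (appT tabs t38 0xfff) 19 (slp 19) 0 63 = true := by decide +kernel
theorem c20 : chkDef 12 (appT tabs t38 0xfff) 20 (slp 20) 0 63 = true := by decide +kernel
theorem c21 : chkDef 12 (appT tabs t38 0xfff) 21 (slp 21) 0 63 = true := by decide +kernel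
theorem c22 : chkDef 12 (appT tabs t38 0xfff) 22 (slp 22) 0 63 = true := by decide +kernel
theorem c23 : chkDef 12 (appT tabs t38 0xfff) 23 (slp 23) 0 63 = true := by decide +kernel
theorem c24 : chkDef 12 (appT tabs t38 0xfff) 24 (slp 24) 0 63 = true := by decide +kernel
theorem c25 : chkDef 12 (appT tabs t38 0xfff) 25 (slp 25) 0 63 = true := by decide +kernel
theorem c26 : chkDef 12 (appT tabs t38 0xfff) 26 (slp 26) 0 63 = true := by decide +kernel
theorem c27 : chkDef 12 (appT tabs t38 0xfff) 27 (slp 27) 0 63 = true := by decide +kernel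
theorem c28 : chkDef 12 (appT tabs t38 0xfff) 28 (slp 28) 0 63 = true := by decide +kernel
theorem c29 : chkDef 12 (appT tabs t38 0xfff) 29 (slp 29) 0 63 = true := by decide +kernel
theorem c30 : chkDef 12 (appT tabs t38 0xfff) 30 (slp 30) 0 63 = true := by decide +kernel
theorem c31 : chkDef 12 (appT tabs t38 0xfff) 31 (slp 31) 0 63 = true := by decide +kernel
theorem c32 : chkDef 12 (appT tabs t38 0xfff) 32 (slp 32) 0 63 = true := by decide +kernel
theorem c33 : chkDef 12 (appT tabs t38 0xfff) 33 (slp 33) 0 63 = true := by decide +kernel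
theorem c34 : chkDef 12 (appT tabs t38 0xfff) 34 (slp 34) 0 63 = true := by decide +kernel
theorem c35 : chkDef 12 (appT tabs t38 0xfff) 35 (slp 35) 0 63 = true := by decide +kernel
theorem c36 : chkDef 12 (appT tabs t38 0xfff) 36 (slp 36) 0 63 = true := by decide +kernel
theorem c37 : chkDef 12 (appT tabs t38 0xfff) 37 (slp 37) 0 63 = true := by decide +kernel
theorem c38 : chkDef 12 (appT tabs t38 0xfff) 38 (false, []) 0 63 = true := by decide +kernel
theorem c39 : mc0.chk (appT tabs t38 0xfff) 1 62 = true := by decide +kernel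
theorem c40 : mc1.chk (appT tabs t38 0xfff) 1 29 = true := by decide +kernel
theorem c41 : mc2.chk (appT tabs t38 0xfff) 1 11 = true := by decide +kernel
theorem c42 : mc3.chk (appT tabs t38 0xfff) 1 7 = true := by decide +kernel
theorem c43 : mc4.chk (appT tabs t38 0xfff) 1 3 = true := by decide +kernel
theorem c44 : mc5.chk (appT tabs t38 0xfff) 1 1 = true := by decide +kernel
theorem c45 : okcb 63 12 (bases mc) = true := by decide +kernel
theorem c46 : headAll (appT tabs t38 0xfff) mc [] = true := by decide +kernel
theorem c47 : tc0.head tcR = true := by decide +kernel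
theorem c48 : allL (fun a => tc0.chk a 0 tc0.N) tc0.S = true := by decide +kernel
theorem c49 : tc1.head tcR = true := by decide +kernel
theorem c50 : allL (fun a => tc1.chk a 0 tc1.N) tc1.S = true := by decide +kernel
theorem c51 : tc2.head tcR = true := by decide +kernel
theorem c52 : allL (fun a => tc2.chk a 0 tc2.N) tc2.S = true := by decide +kernel
theorem c53 : tc3.head tcR = true := by decide +kernel
theorem c54 : allL (fun a => tc3.chk a 0 tc3.N) tc3.S = true := by decide +kernel
theorem c55 : tc4.head tcR = true := by decide +kernel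
theorem c56 : allL (fun a => tc4.chk a 0 tc4.N) tc4.S = true := by decide +kernel
theorem c57 : tc5.head tcR = true := by decide +kernel
theorem c58 : allL (fun a => tc5.chk a 0 tc5.N) tc5.S = true := by decide +kernel
theorem c59 : tcLink tc [] [29,30,31,32,33,34,35,36,37] = true := by decide +kernel
theorem c60 : oneAll 12 (appT tabs t38 0xfff) [29,29] 0 63 = true := by decide +kernel
theorem c61 : oneAll 12 (appT tabs t38 0xfff) [30,30] 0 63 = true := by decide +kernel
theorem c62 : oneAll 12 (appT tabs t38 0xfff) [31,31] 0 63 = true := by decide +kernel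
theorem c63 : oneAll 12 (appT tabs t38 0xfff) [30,29,30,29] 0 63 = true := by decide +kernel
theorem c64 : oneAll 12 (appT tabs t38 0xfff) [31,29,31,29] 0 63 = true := by decide +kernel
theorem c65 : oneAll 12 (appT tabs t38 0xfff) [30,31,30,31] 0 63 = true := by decide +kernel
theorem c66 : oneAll 12 (appT tabs t38 0xfff) [32,32] 0 63 = true := by decide +kernel
theorem c67 : oneAll 12 (appT tabs t38 0xfff) [33,33] 0 63 = true := by decide +kernel
theorem c68 : oneAll 12 (appT tabs t38 0xfff) [34,34] 0 63 = true := by decide +kernel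
theorem c69 : oneAll 12 (appT tabs t38 0xfff) [32,29,32,29] 0 63 = true := by decide +kernel
theorem c70 : oneAll 12 (appT tabs t38 0xfff) [33,29,33,29] 0 63 = true := by decide +kernel
theorem c71 : oneAll 12 (appT tabs t38 0xfff) [34,29,34,29] 0 63 = true := by decide +kernel
theorem c72 : oneAll 12 (appT tabs t38 0xfff) [32,30,32,30] 0 63 = true := by decide +kernel
theorem c73 : oneAll 12 (appT tabs t38 0xfff) [33,30,33,30] 0 63 = true := by decide +kernel
theorem c74 : oneAll 12 (appT tabs t38 0xfff) [34,30,34,30] 0 63 = true := by decide +kernel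
theorem c75 : oneAll 12 (appT tabs t38 0xfff) [32,31,32,31] 0 63 = true := by decide +kernel
theorem c76 : oneAll 12 (appT tabs t38 0xfff) [33,31,33,31] 0 63 = true := by decide +kernel
theorem c77 : oneAll 12 (appT tabs t38 0xfff) [34,31,34,31] 0 63 = true := by decide +kernel
theorem c78 : oneAll 12 (appT tabs t38 0xfff) [32,33,32,33] 0 63 = true := by decide +kernel
theorem c79 : oneAll 12 (appT tabs t38 0xfff) [32,34,32,34] 0 63 = true := by decide +kernel
theorem c80 : oneAll 12 (appT tabs t38 0xfff) [33,34,33,34] 0 63 = true := by decide +kernel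
theorem c81 : oneAll 12 (appT tabs t38 0xfff) [35,35] 0 63 = true := by decide +kernel
theorem c82 : oneAll 12 (appT tabs t38 0xfff) [35,30,31,35,30,31] 0 63 = true := by decide +kernel
theorem c83 : oneAll 12 (appT tabs t38 0xfff) [35,30,33,35,30,33] 0 63 = true := by decide +kernel
theorem c84 : oneAll 12 (appT tabs t38 0xfff) [35,34,35,34,35,34] 0 63 = true := by decide +kernel
theorem c85 : oneAll 12 (appT tabs t38 0xfff) [35,29,35,29,35,30,34] 0 63 = true := by decide +kernel
theorem c86 : oneAll 12 (appT tabs t38 0xfff) [35,32,35,32,35,31,32,33] 0 63 = true := by decide +kernel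
theorem c87 : oneAll 12 (appT tabs t38 0xfff) [35,30,32,35,32,30,35,29,32,34] 0 63 = true := by decide +kernel
theorem c88 : oneAll 12 (appT tabs t38 0xfff) [36,36] 0 63 = true := by decide +kernel
theorem c89 : oneAll 12 (appT tabs t38 0xfff) [36,29,36,29] 0 63 = true := by decide +kernel
theorem c90 : oneAll 12 (appT tabs t38 0xfff) [36,31,36,31] 0 63 = true := by decide +kernel
theorem c91 : oneAll 12 (appT tabs t38 0xfff) [36,32,36,31,34] 0 63 = true := by decide +kernel
theorem c92 : oneAll 12 (appT tabs t38 0xfff) [36,30,36,29,30,31] 0 63 = true := by decide +kernel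
theorem c93 : oneAll 12 (appT tabs t38 0xfff) [36,33,36,29,31,33] 0 63 = true := by decide +kernel
theorem c94 : oneAll 12 (appT tabs t38 0xfff) [36,35,36,35,36,35,36,35,36,35] 0 63 = true := by decide +kernel
theorem c95 : oneAll 12 (appT tabs t38 0xfff) [36,35,30,35,36,35,30,35,36,35,30,35] 0 63 = true := by decide +kernel
theorem c96 : oneAll 12 (appT tabs t38 0xfff) [31,36,35,36,32,35,36,34,32,35,32,36,35] 0 63 = true := by decide +kernel
theorem c97 : oneAll 12 (appT tabs t38 0xfff) [37,37] 0 63 = true := by decide +kernel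
theorem c98 : oneAll 12 (appT tabs t38 0xfff) [37,29,37,29] 0 63 = true := by decide +kernel
theorem c99 : oneAll 12 (appT tabs t38 0xfff) [37,30,37,30] 0 63 = true := by decide +kernel
theorem c100 : oneAll 12 (appT tabs t38 0xfff) [37,31,37,31] 0 63 = true := by decide +kernel
theorem c101 : oneAll 12 (appT tabs t38 0xfff) [37,36,37,36] 0 63 = true := by decide +kernel
theorem c102 : oneAll 12 (appT tabs t38 0xfff) [37,32,37,29,34] 0 63 = true := by decide +kernel
theorem c103 : oneAll 12 (appT tabs t38 0xfff) [31,37,33,32,37,32,33] 0 63 = true := by decide +kernel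
theorem c104 : oneAll 12 (appT tabs t38 0xfff) [37,35,37,33,35,37,35,37,32,33,35,32] 0 63 = true := by decide +kernel
theorem c105 : oneAll 12 (appT tabs t38 0xfff) [37,35,29,36,35,37,35,36,29,35,37,35,29,36,35] 0 63 = true := by decide +kernel
theorem c106 : eqAll 12 (appT tabs t38 0xfff) [0] (nth inW [] 0) 0 63 = true := by decide +kernel
theorem c107 : eqAll 12 (appT tabs t38 0xfff) [1] (nth inW [] 1) 0 63 = true := by decide +kernel
theorem c108 : eqAll 12 (appT tabs t38 0xfff) [2] (nth inW [] 2) 0 63 = true := by decide +kernel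

end Cfsg.Agent.CG.S62
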