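import Cfsg.Agent.Lib.Grp.S62.D0

set_option autoImplicit false
set_option maxRecDepth 100000
set_option Elab.async false

namespace Cfsg.Agent.CG.S62

noncomputable def tabs : List ℕ := [t0,t1,t2,t3,t4,t5,t6,t7,t8,t9,t10,t11,t12,t13,t14,t15,t16,t17,t18,t19,t20,t21,t22,t23,t24,t25,t26,t27,t28,t29,t30,t31,t32,t33,t34,t35,t36,t37]
noncomputable abbrev app : ℕ → ℕ → ℕ := appT tabs t38 0xfff
noncomputable def slpL : List (Bool × List ℕ) := [(false,[]),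
  (false,[]),
  (false,[]),
  (false,[2,2,2,2,0]),
  (true,[3]),
  (false,[0]),
  (false,[3]),
  (true,[6]),
  (false,[0,5,0,4,0,5,1,3,5,1,3,5,4,2,5,4,2,5,0,3,0,5,0]),
  (false,[8,6,8,7,7,8,7]),
  (true,[9]),
  (false,[8,9,6,8,7,10,8]),
  (false,[11,7,8,9,8,6,10]),
  (true,[12]),
  (false,[9,8,13,11,13,6,12,7,8]),
  (true,[14]),
  (false,[11,12,11,12,10,8,10,11,13,11]),
  (true,[16]),
  (false,[14,17,14,9,7,7,12,9,11,9,8,9,8]),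
  (true,[18]),
  (false,[17,14,13,10,11,7,7,13,8,11,9,6]),
  (false,[17,15,15,17,12,6,6,8,7,8,12,10,11]),
  (true,[21]),
  (false,[19,22,16,11,7,11,7,10,6,8,11,6,8,9]),
  (false,[22,22,17,15,8,7,8,7,10,13,6]),
  (false,[19,22,17,8,10,8,11,6,8,12,11,8]),
  (false,[24,25,15,11,7,11,12,8,11,10,6,8,7]),
  (false,[24,25,21,11,6,10,8,10,10,8]),
  (false,[26,23,25,22,18,17,15,17,13,10,11,8,9,6,11,6,8,13]),
  (false,[28]),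
  (false,[27]),
  (false,[26]),
  (false,[25,24,26,28]),
  (false,[25,23]),
  (false,[23,27,28]),
  (false,[21,18,26,28]),
  (false,[16,14,14,16,22,20,24,23,28]),
  (false,[12,15,16,21,25,24,26])]
noncomputable def slp (a : ℕ) : Bool × List ℕ := nth slpL (false, []) a
noncomputable def invL : List ℕ := [0,2,1,4,3,5,7,6,8,10,9,11,13,12,15,14,17,16,19,18,20,22,21,23,24,25,26,27,28,29,30,31,32,33,34,35,36,37]
noncomputable def inv (a : ℕ) : ℕ := nth invL 38 a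
noncomputable def bs : List ℕ := [84,468,108,480,732,552]
noncomputable def mc0 : Lvl := ⟨84, [6,7,8,9,10,11,12,13], 63,
  fun i => look 0xfff mc0c (Nat.mul 12 i), fun i => look 0xff mc0p (Nat.mul 8 i),
  fun i => look 255 mc0l (Nat.mul 8 i), fun i => look 255 mc0i (Nat.mul 8 i), fun x => look 0xfff mc0q x, 3⟩
noncomputable def mc1 : Lvl := ⟨468, [14,15,16,17], 30,
  fun i => look 0xfff mc1c (Nat.mul 12 i), fun i => look 0xff mc1p (Nat.mul 8 i),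
  fun i => look 255 mc1l (Nat.mul 8 i), fun i => look 255 mc1i (Nat.mul 8 i), fun x => look 0xfff mc1q x, 4⟩
noncomputable def mc2 : Lvl := ⟨108, [18,19,20,21,22], 12,
  fun i => look 0xfff mc2c (Nat.mul 12 i), fun i => look 0xf mc2p (Nat.mul 4 i),
  fun i => look 255 mc2l (Nat.mul 8 i), fun i => look 255 mc2i (Nat.mul 8 i), fun x => look 0xfff mc2q x, 2⟩
noncomputable def mc3 : Lvl := ⟨480, [23,24,25], 8,
  fun i => look 0xfff mc3c (Nat.mul 12 i), fun i => look 0xf mc3p (Nat.mul 4 i),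
  fun i => look 255 mc3l (Nat.mul 8 i), fun i => look 255 mc3i (Nat.mul 8 i), fun x => look 0xfff mc3q x, 3⟩
noncomputable def mc4 : Lvl := ⟨732, [26,27], 4,
  fun i => look 0xfff mc4c (Nat.mul 12 i), fun i => look 0xf mc4p (Nat.mul 4 i),
  fun i => look 255 mc4l (Nat.mul 8 i), fun i => look 255 mc4i (Nat.mul 8 i), fun x => look 0xfff mc4q x, 2⟩
noncomputable def mc5 : Lvl := ⟨552, [28], 2,
  fun i => look 0xfff mc5c (Nat.mul 12 i), fun i => look 0xf mc5p (Nat.mul 4 i),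
  fun i => look 255 mc5l (Nat.mul 8 i), fun i => look 255 mc5i (Nat.mul 8 i), fun x => look 0xfff mc5q x, 1⟩
noncomputable def mc : List Lvl := [mc0, mc1, mc2, mc3, mc4, mc5]
noncomputable def tcR : List (List ℕ) := [[29,29],
  [30,30],
  [31,31],
  [30,29,30,29],
  [31,29,31,29],
  [30,31,30,31],
  [32,32],
  [33,33],
  [34,34],
  [32,29,32,29],
  [33,29,33,29],
  [34,29,34,29],
  [32,30,32,30],
  [33,30,33,30],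
  [34,30,34,30],
  [32,31,32,31],
  [33,31,33,31],
  [34,31,34,31],
  [32,33,32,33],
  [32,34,32,34],
  [33,34,33,34],
  [35,35],
  [35,30,31,35,30,31],
  [35,30,33,35,30,33],
  [35,34,35,34,35,34],
  [35,29,35,29,35,30,34],
  [35,32,35,32,35,31,32,33],
  [35,30,32,35,32,30,35,29,32,34],
  [36,36],
  [36,29,36,29],
  [36,31,36,31],
  [36,32,36,31,34],
  [36,30,36,29,30,31],
  [36,33,36,29,31,33],
  [36,35,36,35,36,35,36,35,36,35],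
  [36,35,30,35,36,35,30,35,36,35,30,35],
  [31,36,35,36,32,35,36,34,32,35,32,36,35],
  [37,37],
  [37,29,37,29],
  [37,30,37,30],
  [37,31,37,31],
  [37,36,37,36],
  [37,32,37,29,34],
  [31,37,33,32,37,32,33],
  [37,35,37,33,35,37,35,37,32,33,35,32],
  [37,35,29,36,35,37,35,36,29,35,37,35,29,36,35]]
noncomputable def tc0T : List ℕ := [0,0,0,0,0,0,0,0,0,0,0,0,0,0,0,0,0,0,0,0,0,0,0,0,0,0,0,0,0,tc0t29,tc0t30,tc0t31,tc0t32,tc0t33,tc0t34,tc0t35,tc0t36,tc0t37]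
noncomputable def tc0r : Tr Rule := (.node (.node (.node (.node (.node (.node (.node (.leaf ⟨37,[37],37,1⟩) (.leaf ⟨32,[33,31,37,33,32,37],43,5⟩)) (.node (.leaf ⟨34,[37,32,37,29],42,4⟩) (.leaf ⟨29,[31,29,31],4,3⟩))) (.node (.node (.leaf ⟨29,[37,29,37],38,3⟩) (.leaf ⟨34,[36,32,36,31],31,4⟩)) (.node (.leaf ⟨34,[35,34,35,34,35],24,5⟩) (.leaf ⟨36,[34,32,35,32,36,35,31,36,35,36,32,35],36,6⟩)))) (.node (.node (.node (.leaf ⟨31,[31],2,1⟩) (.leaf ⟨37,[30,37,30],39,2⟩)) (.node (.leaf ⟨30,[34,35,29,35,29,35],25,5⟩) (.leaf ⟨35,[30,33,35,30,33],23,3⟩))) (.node (.node (.leaf ⟨34,[31,34,31],17,2⟩) (.leaf ⟨37,[35,29,36,35,37,35,29,36,35,37,35,36,29,35],45,10⟩)) (.node (.leaf ⟨33,[35,30,33,35,30],23,5⟩) (.leaf ⟨37,[35,37,32,33,35,32,37,35,37,33,35],44,5⟩))))) (.node (.node (.node (.node (.leaf ⟨32,[32],6,1⟩) (.leaf ⟨30,[33,30,33],13,1⟩))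 (.node (.leaf ⟨37,[29,34,37,32],42,2⟩) (.leaf ⟨36,[35,36,35,36,35,36,35,36,35],34,4⟩))) (.node (.node (.leaf ⟨31,[35,30,31,35,30],22,5⟩) (.leaf ⟨35,[37,35,37,32,33,35,32,37,35,37,33],44,4⟩)) (.node (.leaf ⟨35,[32,30,35,29,32,34,35,30,32],27,3⟩) (.leaf ⟨35,[36,35,36,35,36,35,36,35,36],34,5⟩)))) (.node (.node (.node (.leaf ⟨32,[34,32,34],19,2⟩) (.leaf ⟨37,[29,37,29],38,0⟩)) (.node (.leaf ⟨34,[29,34,29],11,2⟩) (.leaf ⟨36,[32,36,31,34],31,0⟩))) (.node (.node (.leaf ⟨30,[31,30,31],5,2⟩) (.leaf ⟨35,[32,35,32,35,31,32,33],26,0⟩)) (.leaf ⟨33,[36,33,36,29,31],33,5⟩))))) (.node (.node (.node (.node (.node (.leaf ⟨29,[29],0,1⟩) (.leaf ⟨34,[32,34,32],19,1⟩)) (.node (.leaf ⟨29,[34,37,32,37],42,3⟩) (.leaf ⟨35,[34,35,34,35,34],24,0⟩))) (.node (.node (.leaf ⟨30,[37,30,37],39,3⟩) (.leaf ⟨33,[35,30,33,35,30],23,2⟩)) (.node (.leaf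 ⟨29,[35,29,35,30,34,35],25,1⟩) (.leaf ⟨36,[29,30,31,36,30],32,2⟩)))) (.node (.node (.node (.leaf ⟨29,[36,29,36],29,3⟩) (.leaf ⟨31,[29,31,29],4,0⟩)) (.node (.leaf ⟨34,[32,34,32],19,3⟩) (.leaf ⟨36,[35,36,35,36,35,36,35,36,35],34,6⟩))) (.node (.node (.leaf ⟨30,[36,29,30,31,36],32,1⟩) (.leaf ⟨32,[37,35,37,33,35,37,35,37,32,33,35],44,11⟩)) (.leaf ⟨33,[32,33,32],18,3⟩)))) (.node (.node (.node (.node (.leaf ⟨36,[36],28,1⟩) (.leaf ⟨30,[33,30,33],13,3⟩)) (.node (.leaf ⟨35,[29,35,30,34,35,29],25,2⟩) (.leaf ⟨32,[33,32,33],18,2⟩))) (.node (.node (.leaf ⟨31,[36,31,36],30,3⟩) (.leaf ⟨31,[34,31,34],17,3⟩)) (.node (.leaf ⟨29,[35,30,34,35,29,35],25,3⟩) (.leaf ⟨37,[36,37,36],41,2⟩)))) (.node (.node (.node (.leaf ⟨31,[34,36,32,36],31,3⟩) (.leaf ⟨33,[30,33,30],13,0⟩)) (.node (.leaf ⟨30,[31,30,31],5,0⟩) (.leaf ⟨36,[33,36,29,31,33],33,0⟩)))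 (.node (.node (.leaf ⟨31,[30,31,30],5,3⟩) (.leaf ⟨32,[30,32,30],12,2⟩)) (.leaf ⟨33,[31,33,31],16,2⟩)))))) (.node (.node (.node (.node (.node (.node (.leaf ⟨35,[35],21,1⟩) (.leaf ⟨32,[29,32,29],9,2⟩)) (.node (.leaf ⟨32,[37,29,34,37],42,1⟩) (.leaf ⟨31,[32,31,32],15,1⟩))) (.node (.node (.leaf ⟨29,[33,29,33],10,3⟩) (.leaf ⟨32,[35,31,32,33,35,32,35],26,3⟩)) (.node (.leaf ⟨34,[33,34,33],20,3⟩) (.leaf ⟨36,[35,36,32,35,36,34,32,35,32,36,35,31],36,1⟩)))) (.node (.node (.node (.leaf ⟨29,[32,29,32],9,3⟩) (.leaf ⟨37,[30,37,30],39,0⟩)) (.node (.leaf ⟨31,[34,31,34],17,1⟩) (.leaf ⟨35,[30,32,35,32,30,35,29,32,34],27,0⟩))) (.node (.node (.leaf ⟨32,[36,31,34,36],31,1⟩) (.leaf ⟨37,[31,37,31],40,2⟩)) (.node (.leaf ⟨33,[29,33,29],10,2⟩) (.leaf ⟨37,[35,29,36,35,37,35,36,29,35,37,35,29,36,35],45,0⟩))))) (.node (.node (.node (.node (.leaf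 ⟨34,[34],8,1⟩) (.leaf ⟨31,[33,31,33],16,1⟩)) (.node (.leaf ⟨35,[34,35,34,35,34],24,4⟩) (.leaf ⟨32,[33,35,32,37,35,37,33,35,37,35,37],44,8⟩))) (.node (.node (.leaf ⟨31,[32,31,32],15,3⟩) (.leaf ⟨35,[32,37,35,37,33,35,37,35,37,32,33],44,10⟩)) (.node (.leaf ⟨34,[35,34,35,34,35],24,3⟩) (.leaf ⟨37,[35,36,29,35,37,35,29,36,35,37,35,29,36,35],45,5⟩)))) (.node (.node (.node (.leaf ⟨29,[34,29,34],11,3⟩) (.leaf ⟨30,[33,35,30,33,35],23,4⟩)) (.node (.leaf ⟨32,[29,32,29],9,0⟩) (.leaf ⟨36,[29,31,33,36,33],33,2⟩))) (.node (.node (.leaf ⟨30,[31,35,30,31,35],22,4⟩) (.leaf ⟨29,[30,29,30],3,3⟩)) (.leaf ⟨33,[36,29,31,33,36],33,1⟩))))) (.node (.node (.node (.node (.node (.leaf ⟨30,[30],1,1⟩) (.leaf ⟨33,[32,33,32],18,1⟩)) (.node (.leaf ⟨37,[32,37,29,34],42,0⟩) (.leaf ⟨35,[30,31,35,30,31],22,3⟩))) (.node (.node (.leaf ⟨31,[37,31,37],40,3⟩)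 (.leaf ⟨35,[37,32,33,35,32,37,35,37,33,35,37],44,6⟩)) (.node (.leaf ⟨31,[35,30,31,35,30],22,2⟩) (.leaf ⟨36,[30,36,29,30,31],32,0⟩)))) (.node (.node (.node (.leaf ⟨30,[32,30,32],12,3⟩) (.leaf ⟨36,[29,36,29],29,0⟩)) (.node (.leaf ⟨36,[29,36,29],29,2⟩) (.leaf ⟨36,[31,34,36,32],31,2⟩))) (.node (.node (.leaf ⟨30,[34,30,34],14,3⟩) (.leaf ⟨35,[31,32,33,35,32,35,32],26,4⟩)) (.leaf ⟨33,[34,33,34],20,2⟩)))) (.node (.node (.node (.node (.leaf ⟨33,[33],7,1⟩) (.leaf ⟨31,[33,31,33],16,3⟩)) (.node (.leaf ⟨34,[35,29,35,29,35,30],25,6⟩) (.leaf ⟨37,[33,32,37,32,33,31],43,1⟩))) (.node (.node (.leaf ⟨36,[31,36,31],30,2⟩) (.leaf ⟨29,[33,29,33],10,1⟩)) (.node (.leaf ⟨33,[32,37,32,33,31,37],43,2⟩) (.leaf ⟨37,[32,33,31,37,33,32],43,4⟩)))) (.node (.node (.node (.leaf ⟨31,[29,31,29],4,2⟩) (.leaf ⟨32,[35,32,35,31,32,33,35],26,1⟩)) (.node (.leaf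 ⟨32,[31,32,31],15,2⟩) (.leaf ⟨35,[30,33,35,30,33],23,0⟩))) (.node (.node (.leaf ⟨36,[37,36,37],41,3⟩) (.leaf ⟨34,[30,34,30],14,0⟩)) (.leaf ⟨35,[32,35,31,32,33,35,32],26,2⟩)))))))
noncomputable def tc0 : TCL := ⟨[29,30,31,32,33,34,35,36,37], [29,30,31,32,33,34,35,36], 63, 24, 0x7ff, 11, 0x7f,
  fun a x => look 0xffffff (nth tc0T 0 a) x, fun x => look 0xffffff tc0d x, tc0r⟩
noncomputable def tc1T : List ℕ := [0,0,0,0,0,0,0,0,0,0,0,0,0,0,0,0,0,0,0,0,0,0,0,0,0,0,0,0,0,tc1t29,tc1t30,tc1t31,tc1t32,tc1t33,tc1t34,tc1t35,tc1t36]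
noncomputable def tc1r : Tr Rule := (.node (.node (.node (.node (.node (.node (.node (.leaf ⟨36,[36],28,1⟩) (.leaf ⟨34,[32,34,32],19,1⟩)) (.leaf ⟨34,[29,34,29],11,2⟩)) (.node (.leaf ⟨35,[34,35,34,35,34],24,4⟩) (.leaf ⟨33,[31,33,31],16,2⟩))) (.node (.node (.leaf ⟨30,[32,30,32],12,3⟩) (.leaf ⟨29,[35,30,34,35,29,35],25,3⟩)) (.node (.leaf ⟨30,[34,30,34],14,3⟩) (.leaf ⟨35,[36,34,32,35,32,36,35,31,36,35,36,32],36,5⟩)))) (.node (.node (.node (.node (.leaf ⟨32,[32],6,1⟩) (.leaf ⟨35,[30,31,35,30,31],22,3⟩)) (.leaf ⟨30,[31,35,30,31,35],22,4⟩)) (.node (.leaf ⟨31,[32,31,32],15,3⟩) (.leaf ⟨32,[35,31,32,33,35,32,35],26,3⟩))) (.node (.node (.leaf ⟨31,[36,31,36],30,3⟩) (.leaf ⟨33,[29,33,29],10,2⟩)) (.node (.leaf ⟨30,[34,35,29,35,29,35],25,5⟩) (.leaf ⟨32,[30,32,30],12,2⟩))))) (.node (.node (.node (.node (.node (.leaf ⟨29,[29],0,1⟩)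 (.leaf ⟨36,[32,36,31,34],31,0⟩)) (.leaf ⟨32,[31,32,31],15,2⟩)) (.node (.leaf ⟨30,[31,36,30,36,29],32,4⟩) (.leaf ⟨34,[35,34,35,34,35],24,3⟩))) (.node (.node (.leaf ⟨29,[36,29,36],29,3⟩) (.leaf ⟨33,[35,30,33,35,30],23,5⟩)) (.node (.leaf ⟨35,[29,35,30,34,35,29],25,2⟩) (.leaf ⟨35,[36,32,35,36,34,32,35,32,36,35,31,36],36,2⟩)))) (.node (.node (.node (.leaf ⟨31,[31],2,1⟩) (.leaf ⟨29,[35,29,35,30,34,35],25,1⟩)) (.node (.leaf ⟨34,[31,34,31],17,2⟩) (.leaf ⟨36,[35,36,35,36,35,36,35,36,35],34,6⟩))) (.node (.node (.leaf ⟨32,[36,31,34,36],31,1⟩) (.leaf ⟨33,[34,33,34],20,2⟩)) (.node (.leaf ⟨34,[32,34,32],19,3⟩) (.leaf ⟨29,[31,29,31],4,3⟩)))))) (.node (.node (.node (.node (.node (.node (.leaf ⟨35,[35],21,1⟩) (.leaf ⟨36,[30,36,29,30,31],32,0⟩)) (.leaf ⟨30,[31,30,31],5,0⟩)) (.node (.leaf ⟨35,[32,30,35,29,32,34,35,30,32],27,3⟩) (.leaf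 ⟨35,[32,35,31,32,33,35,32],26,2⟩))) (.node (.node (.leaf ⟨32,[34,32,34],19,2⟩) (.leaf ⟨33,[36,33,36,29,31],33,5⟩)) (.node (.leaf ⟨30,[31,30,31],5,2⟩) (.leaf ⟨35,[32,36,35,31,36,35,36,32,35,36,34,32],36,9⟩)))) (.node (.node (.node (.node (.leaf ⟨34,[34],8,1⟩) (.leaf ⟨36,[35,36,35,36,35,36,35,36,35],34,4⟩)) (.leaf ⟨31,[30,31,30],5,3⟩)) (.node (.leaf ⟨36,[31,36,31],30,2⟩) (.leaf ⟨33,[35,30,33,35,30],23,2⟩))) (.node (.node (.leaf ⟨34,[36,32,36,31],31,4⟩) (.leaf ⟨33,[32,33,32],18,3⟩)) (.node (.leaf ⟨31,[34,31,34],17,1⟩) (.leaf ⟨34,[30,34,30],14,0⟩))))) (.node (.node (.node (.node (.node (.leaf ⟨30,[30],1,1⟩) (.leaf ⟨35,[34,35,34,35,34],24,0⟩)) (.leaf ⟨34,[35,34,35,34,35],24,5⟩)) (.node (.leaf ⟨31,[35,30,31,35,30],22,5⟩) (.leaf ⟨32,[35,32,35,31,32,33,35],26,1⟩))) (.node (.node (.leaf ⟨29,[34,29,34],11,3⟩) (.leaf ⟨33,[33],7,1⟩))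 (.node (.leaf ⟨34,[35,29,35,29,35,30],25,6⟩) (.leaf ⟨29,[30,29,30],3,3⟩)))) (.node (.node (.node (.leaf ⟨29,[32,29,32],9,3⟩) (.leaf ⟨31,[35,30,31,35,30],22,2⟩)) (.node (.leaf ⟨30,[36,29,30,31,36],32,1⟩) (.leaf ⟨36,[35,30,35,36,35,30,35,36,35,30,35],35,8⟩))) (.node (.node (.leaf ⟨31,[34,36,32,36],31,3⟩) (.leaf ⟨33,[36,29,31,33,36],33,1⟩)) (.node (.leaf ⟨36,[29,36,29],29,2⟩) (.leaf ⟨31,[32,31,32],15,1⟩)))))))
noncomputable def tc1 : TCL := ⟨[29,30,31,32,33,34,35,36], [29,30,31,32,33,34,35], 30, 24, 0x3ff, 10, 0x7f,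
  fun a x => look 0xffffff (nth tc1T 0 a) x, fun x => look 0xffffff tc1d x, tc1r⟩
noncomputable def tc2T : List ℕ := [0,0,0,0,0,0,0,0,0,0,0,0,0,0,0,0,0,0,0,0,0,0,0,0,0,0,0,0,0,tc2t29,tc2t30,tc2t31,tc2t32,tc2t33,tc2t34,tc2t35]
noncomputable def tc2r : Tr Rule := (.node (.node (.node (.node (.node (.node (.leaf ⟨35,[35],21,1⟩) (.leaf ⟨30,[35,29,32,34,35,30,32,35,32],27,5⟩)) (.leaf ⟨34,[35,29,35,29,35,30],25,6⟩)) (.node (.leaf ⟨31,[35,30,31,35,30],22,5⟩) (.leaf ⟨29,[35,29,35,30,34,35],25,1⟩))) (.node (.node (.leaf ⟨34,[34],8,1⟩) (.leaf ⟨34,[32,34,32],19,3⟩)) (.node (.leaf ⟨33,[33],7,1⟩) (.leaf ⟨35,[31,32,33,35,32,35,32],26,4⟩)))) (.node (.node (.node (.node (.leaf ⟨30,[30],1,1⟩) (.leaf ⟨34,[35,30,32,35,32,30,35,29,32],27,9⟩)) (.leaf ⟨30,[34,30,34],14,1⟩)) (.node (.leaf ⟨31,[32,31,32],15,3⟩) (.leaf ⟨31,[35,30,31,35,30],22,2⟩)))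 (.node (.node (.leaf ⟨30,[32,30,32],12,3⟩) (.leaf ⟨33,[34,33,34],20,0⟩)) (.node (.leaf ⟨35,[34,35,34,35,34],24,4⟩) (.leaf ⟨29,[35,30,34,35,29,35],25,3⟩))))) (.node (.node (.node (.node (.node (.leaf ⟨29,[29],0,1⟩) (.leaf ⟨32,[34,35,30,32,35,32,30,35,29],27,8⟩)) (.leaf ⟨29,[34,29,34],11,3⟩)) (.node (.leaf ⟨31,[31],2,1⟩) (.leaf ⟨30,[34,35,29,35,29,35],25,5⟩))) (.node (.node (.leaf ⟨29,[32,29,32],9,3⟩) (.leaf ⟨33,[34,33,34],20,2⟩)) (.node (.leaf ⟨33,[32,33,32],18,3⟩) (.leaf ⟨32,[35,31,32,33,35,32,35],26,3⟩)))) (.node (.node (.node (.node (.leaf ⟨32,[32],6,1⟩) (.leaf ⟨29,[32,34,35,30,32,35,32,30,35],27,7⟩)) (.leaf ⟨31,[34,31,34],17,1⟩)) (.node (.leaf ⟨33,[35,30,33,35,30],23,5⟩) (.leaf ⟨33,[35,30,33,35,30],23,2⟩))) (.node (.node (.leaf ⟨32,[34,32,34],19,2⟩) (.leaf ⟨34,[35,34,35,34,35],24,3⟩)) (.node (.leaf ⟨35,[29,35,30,34,35,29],25,2⟩)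 (.leaf ⟨35,[29,32,34,35,30,32,35,32,30],27,6⟩))))))
noncomputable def tc2 : TCL := ⟨[29,30,31,32,33,34,35], [29,30,31,32,33,34], 12, 20, 0xff, 8, 0x3f,
  fun a x => look 0xfffff (nth tc2T 0 a) x, fun x => look 0xfffff tc2d x, tc2r⟩
noncomputable def tc3T : List ℕ := [0,0,0,0,0,0,0,0,0,0,0,0,0,0,0,0,0,0,0,0,0,0,0,0,0,0,0,0,0,tc3t29,tc3t30,tc3t31,tc3t32,tc3t33,tc3t34]
noncomputable def tc3r : Tr Rule := (.node (.node (.node (.node (.leaf ⟨32,[32],6,1⟩) (.leaf ⟨30,[34,30,34],14,3⟩)) (.node (.leaf ⟨29,[33,29,33],10,3⟩) (.leaf ⟨32,[33,32,33],18,2⟩))) (.node (.node (.leaf ⟨34,[34],8,1⟩) (.leaf ⟨31,[33,31,33],16,3⟩)) (.node (.leaf ⟨30,[32,30,32],12,3⟩) (.leaf ⟨33,[34,33,34],20,2⟩)))) (.node (.node (.node (.leaf ⟨33,[33],7,1⟩) (.leaf ⟨31,[32,31,32],15,3⟩)) (.node (.leaf ⟨29,[34,29,34],11,3⟩) (.leaf ⟨32,[34,32,34],19,2⟩)))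 (.node (.node (.leaf ⟨29,[32,29,32],9,3⟩) (.leaf ⟨31,[34,31,34],17,3⟩)) (.leaf ⟨30,[33,30,33],13,3⟩))))
noncomputable def tc3 : TCL := ⟨[29,30,31,32,33,34], [29,30,31], 8, 16, 0xff, 8, 0x1f,
  fun a x => look 0xffff (nth tc3T 0 a) x, fun x => look 0xffff tc3d x, tc3r⟩
noncomputable def tc4T : List ℕ := [0,0,0,0,0,0,0,0,0,0,0,0,0,0,0,0,0,0,0,0,0,0,0,0,0,0,0,0,0,tc4t29,tc4t30,tc4t31]
noncomputable def tc4r : Tr Rule := (.node (.node (.node (.leaf ⟨30,[30],1,1⟩) (.leaf ⟨30,[31,30,31],5,2⟩)) (.leaf ⟨29,[30,29,30],3,3⟩)) (.node (.leaf ⟨31,[31],2,1⟩) (.leaf ⟨29,[31,29,31],4,3⟩)))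
noncomputable def tc4 : TCL := ⟨[29,30,31], [29], 4, 16, 0x7f, 7, 0x7,
  fun a x => look 0xffff (nth tc4T 0 a) x, fun x => look 0xffff tc4d x, tc4r⟩
noncomputable def tc5T : List ℕ := [0,0,0,0,0,0,0,0,0,0,0,0,0,0,0,0,0,0,0,0,0,0,0,0,0,0,0,0,0,tc5t29]
noncomputable def tc5r : Tr Rule := (.leaf ⟨29,[29],0,1⟩)
noncomputable def tc5 : TCL := ⟨[29], [], 2, 16, 0x3f, 6, 0x3,
  fun a x => look 0xffff (nth tc5T 0 a) x, fun x => look 0xffff tc5d x, tc5r⟩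
noncomputable def tc : List TCL := [tc0, tc1, tc2, tc3, tc4, tc5]
noncomputable def inW : List (List ℕ) := [[36,32,29,35,36,32,35,31],
  [33,37,35,37,34,35,36,35,36,35,34,32,35,32],
  [33,37,29,35,37,34,35,36,34,35,36,34,35,34,31,30]]
noncomputable def tcS : List ℕ := [29,30,31,32,33,34,35,36,37]

end Cfsg.Agent.CG.S62
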